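import Mathlib.RingTheory.Polynomial.Pochhammer
import Mathlib.Algebra.Polynomial.Eval.Degree
import Mathlib.Algebra.Polynomial.BigOperators
import Mathlib.LinearAlgebra.Lagrange
import Mathlib.Data.Rat.Floor
import Mathlib.Data.Nat.Choose.Cast
import Mathlib.RingTheory.Coprime.Lemmas
import Mathlib.Tactic.FieldSimp
import Mathlib.Tactic.LinearCombination

/-!
# Denominators of polynomials taking integral values on scaled rationals
-/

namespace Groth.Agent.RatPolyInt

open Polynomial

/-- a polynomial of degree at most `g` which is integral at `g + 1` consecutive integers has `g!` times integral coefficients -/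
theorem factorial_mul_coeff_int : ∀ (g : ℕ) (f : ℚ[X]), f.natDegree ≤ g → ∀ a : ℤ,
    (∀ i : ℕ, i ≤ g → ∃ z : ℤ, f.eval ((a : ℚ) + i) = z) → ∃ p : ℤ[X], C (g.factorial : ℚ) * f = p.map (Int.castRingHom ℚ) := by
  intro g
  induction g with
  | zero =>
    intro f hf a h
    obtain ⟨z, hz⟩ := h 0 le_rfl
    rw [eq_C_of_natDegree_le_zero hf, eval_C] at hz
    exact ⟨C z, by rw [eq_C_of_natDegree_le_zero hf, map_C, hz]; simp⟩
  | succ g ih =>
    intro f hf a h
    -- interpolate by descending factorials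
    let P : ℤ[X] := (descPochhammer ℤ (g + 1)).comp (X - C a)
    have hPm : P.Monic := by
      refine (monic_descPochhammer ℤ (g + 1)).comp (monic_X_sub_C a) ?_
      rw [natDegree_X_sub_C]; exact one_ne_zero
    have hPd : P.natDegree = g + 1 := by
      rw [natDegree_comp, natDegree_X_sub_C, mul_one, descPochhammer_natDegree]
    have hP0 : ∀ i : ℕ, i ≤ g → (P.map (Int.castRingHom ℚ)).eval ((a : ℚ) + i) = 0 := by
      intro i hi
      rw [show ((a : ℚ) + i) = Int.castRingHom ℚ (a + i) by simp, eval_map, eval₂_at_apply]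
      simp only [P, eval_comp, eval_sub, eval_X, eval_C, add_sub_cancel_left]
      rw [descPochhammer_eval_eq_descFactorial, Nat.descFactorial_eq_zero_iff_lt.2 (by omega)]
      simp
    have hP1 : (P.map (Int.castRingHom ℚ)).eval ((a : ℚ) + (g + 1 : ℕ)) = ((g + 1).factorial : ℚ) := by
      rw [show ((a : ℚ) + (g + 1 : ℕ)) = Int.castRingHom ℚ (a + (g + 1 : ℕ)) by simp, eval_map, eval₂_at_apply]
      simp only [P, eval_comp, eval_sub, eval_X, eval_C, add_sub_cancel_left]
      rw [descPochhammer_eval_eq_descFactorial, Nat.descFactorial_self]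
      simp
    let d : ℚ := f.coeff (g + 1)
    let f' : ℚ[X] := f - C d * P.map (Int.castRingHom ℚ)
    have hf' : f'.natDegree ≤ g := by
      refine natDegree_le_iff_coeff_eq_zero.2 fun m hm => ?_
      simp only [f', coeff_sub, coeff_C_mul, coeff_map]
      rcases Nat.eq_or_lt_of_le (Nat.succ_le_of_lt hm) with e | e
      · subst e
        have h1 : P.coeff (g + 1) = 1 := by have := hPm.coeff_natDegree; rwa [hPd] at this
        simp [d, Nat.succ_eq_add_one, h1]
      · rw [coeff_eq_zero_of_natDegree_lt (lt_of_le_of_lt hf e),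
          coeff_eq_zero_of_natDegree_lt (p := P) (by rw [hPd]; exact e)]
        simp
    have hval : ∀ i : ℕ, i ≤ g → ∃ z : ℤ, f'.eval ((a : ℚ) + i) = z := fun i hi => by
      obtain ⟨z, hz⟩ := h i (by omega)
      exact ⟨z, by simp [f', hz, hP0 i hi]⟩
    obtain ⟨p, hp⟩ := ih f' hf' a hval
    obtain ⟨z, hz⟩ := h (g + 1) le_rfl
    -- the leading coefficient
    have he : (g.factorial : ℚ) * f'.eval ((a : ℚ) + (g + 1 : ℕ)) = ((p.eval (a + (g + 1 : ℕ)) : ℤ) : ℚ) := by
      have e := congrArg (Polynomial.eval ((a : ℚ) + (g + 1 : ℕ))) hp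
      rw [eval_mul, eval_C, show ((a : ℚ) + (g + 1 : ℕ)) = Int.castRingHom ℚ (a + (g + 1 : ℕ)) by simp,
        eval_map, eval₂_at_apply] at e
      simpa using e
    have hd : (g.factorial : ℚ) * ((g + 1).factorial : ℚ) * d =
        ((g.factorial * z - p.eval (a + (g + 1 : ℕ)) : ℤ) : ℚ) := by
      simp only [f', eval_sub, eval_mul, eval_C, hz, hP1] at he
      push_cast at he ⊢
      linear_combination -he
    -- its denominator divides the factorial
    obtain ⟨w, hw⟩ : ∃ w : ℤ, ((g + 1).factorial : ℚ) * d = w := by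
      clear hp he hd p hval hf'
      have hinterp : ∃ w : ℤ, ((g + 1).factorial : ℚ) * d = w := by
        choose zf hzf using h
        have hs : Set.InjOn (fun i : ℕ => (a : ℚ) + i) (Finset.range (g + 2)) := fun i _ j _ e => by simpa using e
        refine ⟨∑ i ∈ Finset.range (g + 2), (-1) ^ (g + 1 - i) * ((g + 1).choose i : ℤ) * (if hi : i ≤ g + 1 then zf i hi else 0), ?_⟩
        have hdeg : f.degree < (Finset.range (g + 2)).card := by
          rw [Finset.card_range]
          exact (degree_le_natDegree.trans_lt (WithBot.coe_lt_coe.2 (by show f.natDegree < g + 2; omega)))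
        have key := Lagrange.coeff_eq_sum hs hdeg
        rw [Finset.card_range, show g + 2 - 1 = g + 1 from rfl] at key
        simp only [d]
        rw [key, Finset.mul_sum, Int.cast_sum]
        refine Finset.sum_congr rfl fun i hi => ?_
        rw [Finset.mem_range] at hi
        rw [dif_pos (show i ≤ g + 1 by omega), hzf i (by omega)]
        have hprod : ∀ n i : ℕ, i ≤ n → (∏ j ∈ (Finset.range (n + 1)).erase i, (((a : ℚ) + i) - ((a : ℚ) + j))) =
            (-1) ^ (n - i) * ((i.factorial : ℚ) * (n - i).factorial) := by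
          intro n i hin
          induction n, hin using Nat.le_induction with
          | base =>
            rw [Finset.range_add_one, Finset.erase_insert Finset.notMem_range_self, Nat.sub_self, pow_zero, one_mul,
              Nat.factorial_zero, Nat.cast_one, mul_one, ← Finset.prod_range_add_one_eq_factorial, Nat.cast_prod,
              ← Finset.prod_range_reflect (fun j => ((j + 1 : ℕ) : ℚ))]
            refine Finset.prod_congr rfl fun j hj => ?_
            rw [Finset.mem_range] at hj
            rw [add_sub_add_left_eq_sub, show i - 1 - j + 1 = i - j by omega, Nat.cast_sub hj.le]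
          | succ n hn ihn =>
            rw [Finset.range_add_one, Finset.erase_insert_of_ne (by omega), Finset.prod_insert (by simp), ihn,
              Nat.succ_sub hn, Nat.succ_eq_add_one, pow_succ, Nat.factorial_succ, add_sub_add_left_eq_sub]
            push_cast
            rw [Nat.cast_sub hn]
            ring
        rw [hprod (g + 1) i (by omega)]
        push_cast
        rw [Nat.cast_choose ℚ (show i ≤ g + 1 by omega)]
        rcases neg_one_pow_eq_or ℚ (g + 1 - i) with e | e <;> rw [e] <;> field_simp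
      exact hinterp
    refine ⟨C ((g + 1 : ℕ) : ℤ) * p + C w * P, ?_⟩
    have hfe : f = f' + C d * P.map (Int.castRingHom ℚ) := by simp [f']
    have hwC : C ((g + 1).factorial : ℚ) * C d = C (w : ℚ) := by rw [← C_mul, hw]
    have hsC : C ((g + 1).factorial : ℚ) = C ((g + 1 : ℕ) : ℚ) * C (g.factorial : ℚ) := by
      rw [← C_mul, Nat.factorial_succ, Nat.cast_mul]
    rw [Polynomial.map_add, Polynomial.map_mul, Polynomial.map_mul, map_C, map_C, ← hp, eq_intCast, eq_intCast,
      Int.cast_natCast]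
    conv_lhs => rw [hfe]
    rw [mul_add, ← mul_assoc (C ((g + 1).factorial : ℚ)) (C d), hwC, hsC, mul_assoc]

/-- If `b ^ N * Q (a / b)` is integral whenever `a / b` is in an interval, `g! Q` is integral. -/
theorem factorial_mul_coeff_int_of_scaled (g : ℕ) (Q : ℚ[X]) (hQ : Q.natDegree ≤ g) (u v : ℚ) (huv : u < v) (N : ℕ)
    (hN : g ≤ N)
    (h : ∀ (a : ℤ) (b : ℕ), 0 < b → u < (a : ℚ) / (b : ℚ) → (a : ℚ) / (b : ℚ) < v →
      ∃ z : ℤ, (b : ℚ) ^ N * Q.eval ((a : ℚ) / (b : ℚ)) = z)
    (j : ℕ) : ∃ z : ℤ, (g.factorial : ℚ) * Q.coeff j = (z : ℚ) := by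
  obtain ⟨B, hB⟩ : ∃ B : ℕ, ((g : ℚ) + 2) / (v - u) ≤ B := ⟨_, Nat.le_ceil _⟩
  by_cases hj : g < j
  · exact ⟨0, by rw [coeff_eq_zero_of_natDegree_lt (lt_of_le_of_lt hQ hj)]; simp⟩
  have key : ∀ b : ℕ, B ≤ b → 0 < b → ∃ z : ℤ, (b : ℚ) ^ N * ((g.factorial : ℚ) * Q.coeff j) = z := by
    intro b hb hb0
    let f : ℚ[X] := ∑ i ∈ Finset.range (g + 1), C (Q.coeff i * (b : ℚ) ^ (N - i)) * X ^ i
    have hf : f.natDegree ≤ g := natDegree_sum_le_of_forall_le _ _ fun i hi =>
      (natDegree_C_mul_X_pow_le _ _).trans (by rw [Finset.mem_range] at hi; omega)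
    have hb' : (b : ℚ) ≠ 0 := by exact_mod_cast hb0.ne'
    have heval : ∀ a : ℚ, f.eval a = (b : ℚ) ^ N * Q.eval (a / b) := fun a => by
      rw [eval_eq_sum_range' (lt_of_le_of_lt hQ (Nat.lt_succ_self g)), Finset.mul_sum]
      simp only [f, eval_finset_sum, eval_mul, eval_C, eval_pow, eval_X]
      refine Finset.sum_congr rfl fun i hi => ?_
      rw [Finset.mem_range] at hi
      rw [div_pow, show (b : ℚ) ^ N = (b : ℚ) ^ (N - i) * (b : ℚ) ^ i from by rw [← pow_add]; congr 1; omega]
      field_simp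
    let a₀ : ℤ := ⌊u * b⌋ + 1
    have hlo : u * b < a₀ := by simpa [a₀] using Int.lt_floor_add_one (u * (b : ℚ))
    have hhi : (a₀ : ℚ) ≤ u * b + 1 := by
      simp only [a₀]; push_cast; linarith [Int.floor_le (u * (b : ℚ))]
    have hwidth : (g : ℚ) + 2 ≤ (v - u) * b := by
      rw [div_le_iff₀ (by linarith)] at hB
      have : (B : ℚ) ≤ b := by exact_mod_cast hb
      nlinarith
    obtain ⟨p, hp⟩ := factorial_mul_coeff_int g f hf a₀ fun i hi => by
      have hbp : (0 : ℚ) < b := by exact_mod_cast hb0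
      have hi' : (i : ℚ) ≤ g := by exact_mod_cast hi
      have hi0 : (0 : ℚ) ≤ i := by positivity
      have h1 : u < ((a₀ : ℚ) + i) / b := by rw [lt_div_iff₀ hbp]; linarith
      have h2 : ((a₀ : ℚ) + i) / b < v := by rw [div_lt_iff₀ hbp]; linarith
      obtain ⟨z, hz⟩ := h (a₀ + i) b hb0 (by push_cast; exact h1) (by push_cast; exact h2)
      exact ⟨z, by rw [heval]; push_cast at hz; exact hz⟩
    refine ⟨p.coeff j * (b : ℤ) ^ j, ?_⟩
    have hcj := congrArg (fun q : ℚ[X] => q.coeff j) hp
    simp only [coeff_C_mul, coeff_map, eq_intCast] at hcj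
    have hfj : f.coeff j = Q.coeff j * (b : ℚ) ^ (N - j) := by
      simp only [f, finset_sum_coeff, coeff_C_mul, coeff_X_pow, mul_ite, mul_one, mul_zero]
      rw [Finset.sum_ite_eq]
      simp [show j < g + 1 by omega]
    rw [hfj] at hcj
    push_cast
    rw [show (b : ℚ) ^ N = (b : ℚ) ^ (N - j) * (b : ℚ) ^ j from by rw [← pow_add]; congr 1; omega]
    linear_combination (b : ℚ) ^ j * hcj
  obtain ⟨z, hz⟩ := key (B + 1) (by omega) (by omega)
  obtain ⟨z', hz'⟩ := key (B + 1 + 1) (by omega) (by omega)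
  have hc : IsCoprime (((B + 1 : ℕ) : ℤ) ^ N) (((B + 1 + 1 : ℕ) : ℤ) ^ N) :=
    IsCoprime.pow ⟨-1, 1, by push_cast; ring⟩
  obtain ⟨x, y, hxy⟩ := hc
  refine ⟨x * z + y * z', ?_⟩
  have hxy' : ((x : ℚ) * ((B + 1 : ℕ) : ℚ) ^ N + (y : ℚ) * ((B + 1 + 1 : ℕ) : ℚ) ^ N) = 1 := by exact_mod_cast hxy
  push_cast at hxy' hz hz' ⊢
  linear_combination -((g.factorial : ℚ) * Q.coeff j) * hxy' + (x : ℚ) * hz + (y : ℚ) * hz'

end Groth.Agent.RatPolyInt
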